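import Groth.Agent.Lib.GerbAbs16.Banding
import Groth.Prelude.Def_AlgSt5
import Groth.Prelude.Def_StGerb2

/-! A point over the base with its automorphism group scheme. -/

universe u

open CategoryTheory CategoryTheory.Functor MonoidalCategory CartesianMonoidalCategory MonObj AlgebraicGeometry Opposite

set_option autoImplicit false
set_option linter.style.haveILetI false
set_option linter.unusedSectionVars false
set_option backward.isDefEq.respectTransparency false
set_option backward.isDefEq.respectTransparency.types false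

namespace Groth.Agent.BGGerbe16

variable {S : Scheme.{u}}

/-- a scheme over the base as an object of the slice of the base over itself -/
def ptOb (W : Over S) : Over (Over.mk (𝟙 S) : Over S) :=
  Over.mk (Over.homMk W.hom (Category.comp_id _) : W ⟶ Over.mk (𝟙 S))

/-- morphisms of such objects -/
def ptHom {V W : Over S} (k : V ⟶ W) : ptOb V ⟶ ptOb W :=
  Over.homMk k (Over.OverMorphism.ext (Over.w k))

theorem ptHom_id (W : Over S) : ptHom (𝟙 W) = 𝟙 (ptOb W) := Over.OverMorphism.ext rfl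

theorem ptHom_comp {U V W : Over S} (k : U ⟶ V) (l : V ⟶ W) : ptHom (k ≫ l) = ptHom k ≫ ptHom l :=
  Over.OverMorphism.ext rfl

variable {𝒳 : AlgSt.Cat S} (x : FibCat.overCat (Over.mk (𝟙 S)) ⥤ᵇ 𝒳)

/-- the value of the point on a scheme over the base -/
abbrev xOb (W : Over S) : 𝒳.obj := x.obj (ptOb W)

/-- the restriction morphisms -/
abbrev xm {V W : Over S} (k : V ⟶ W) : xOb x V ⟶ xOb x W := x.map (ptHom k)

theorem xOb_p (W : Over S) : 𝒳.p.obj (xOb x W) = W := x.w_obj _

instance xm_lift {V W : Over S} (k : V ⟶ W) : 𝒳.p.IsHomLift k (xm x k) :=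
  haveI : (FibCat.overCat (Over.mk (𝟙 S) : Over S)).p.IsHomLift k (ptHom k) :=
    IsHomLift.map (FibCat.overCat (Over.mk (𝟙 S) : Over S)).p (ptHom k)
  BasedFunctor.preserves_isHomLift x k (ptHom k)

theorem xm_id (W : Over S) : xm x (𝟙 W) = 𝟙 _ := by
  rw [xm, ptHom_id]; exact x.toFunctor.map_id _

theorem xm_comp {U V W : Over S} (k : U ⟶ V) (l : V ⟶ W) : xm x (k ≫ l) = xm x k ≫ xm x l := by
  rw [xm, ptHom_comp]; exact x.toFunctor.map_comp _ _

variable {G : Over S} [GrpObj G] (r : Gerb.AutRep x (Gerb.ptsGrp (Over.mk (𝟙 S)) G))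

/-- the automorphism of the value of the point given by a point of the group, composing covariantly -/
noncomputable def ε {W : Over S} (g : W ⟶ G) : xOb x W ⟶ xOb x W :=
  (r.iso (ptOb W) ((g⁻¹ : W ⟶ G) : _)).hom.1

instance ε_lift {W : Over S} (g : W ⟶ G) : 𝒳.p.IsHomLift (𝟙 W) (ε x r g) := by
  have h : 𝒳.p.IsHomLift (𝟙 (𝒳.p.obj (xOb x W))) (ε x r g) := (r.iso (ptOb W) _).hom.2
  rw [xOb_p] at h
  exact h

theorem ε_one {W : Over S} : ε x r (1 : W ⟶ G) = 𝟙 _ := by
  refine (congrArg (fun a => (r.iso (ptOb W) a).hom.1) (inv_one : (1 : W ⟶ G)⁻¹ = 1)).trans ?_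
  exact congrArg (fun a : Gerb.AutO (xOb x W) => a.hom.1) (r.iso (ptOb W)).map_one

theorem ε_mul {W : Over S} (g h : W ⟶ G) : ε x r (g * h) = ε x r g ≫ ε x r h := by
  refine (congrArg (fun a => (r.iso (ptOb W) a).hom.1) (mul_inv_rev g h)).trans ?_
  exact congrArg (fun a : Gerb.AutO (xOb x W) => a.hom.1) ((r.iso (ptOb W)).map_mul _ _)

theorem ε_nat {V W : Over S} (k : V ⟶ W) (g : W ⟶ G) :
    ε x r (k ≫ g) ≫ xm x k = xm x k ≫ ε x r g := by
  have h := r.natural (ptHom k) ((g⁻¹ : W ⟶ G) : _)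
  refine Eq.trans ?_ h
  refine congrArg (fun a => (r.iso (ptOb V) a).hom.1 ≫ xm x k) ?_
  exact (GrpObj.comp_inv k g).symm

theorem ε_injective {W : Over S} {g h : W ⟶ G} (e : ε x r g = ε x r h) : g = h :=
  inv_injective ((r.iso (ptOb W)).injective (Groth.Agent.GerbAbs.Band.autO_ext e))

theorem exists_ε (hX : FibCat.IsFibGrpd 𝒳.p) {W : Over S} (a : xOb x W ⟶ xOb x W)
    [𝒳.p.IsHomLift (𝟙 W) a] : ∃ g : W ⟶ G, ε x r g = a := by
  obtain ⟨α, hα⟩ := Groth.Agent.GerbAbs.Band.exists_autO hX a (by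
    simpa using IsHomLift.fac' 𝒳.p (𝟙 W) a)
  obtain ⟨g, hg⟩ := (r.iso (ptOb W)).surjective α
  refine ⟨(show W ⟶ G from g)⁻¹, ?_⟩
  refine Eq.trans ?_ hα
  rw [← hg]
  exact congrArg (fun a => (r.iso (ptOb W) a).hom.1) (inv_inv (show W ⟶ G from g))

end Groth.Agent.BGGerbe16
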