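import Groth.Agent.Lib.BGGerbe16.Pts
import Groth.Agent.Lib.BGGerbe16.Rep
import Groth.Agent.Lib.FC16.Descent
import Groth.Agent.Lib.Quot16.Glue

/-! Descending a point along a torsor of its automorphism group. -/

universe u

open CategoryTheory CategoryTheory.Functor MonoidalCategory CartesianMonoidalCategory MonObj AlgebraicGeometry Opposite

set_option autoImplicit false
set_option linter.style.haveILetI false
set_option linter.unusedSectionVars false
set_option backward.isDefEq.respectTransparency false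
set_option backward.isDefEq.respectTransparency.types false

namespace Groth.Agent.BGGerbe16

open AlgSt Groth.Agent.FC16

variable {S : Scheme.{u}} {K : Precoverage Scheme.{u}} {𝒳 : AlgSt.Cat S}
  (x : FibCat.overCat (Over.mk (𝟙 S)) ⥤ᵇ 𝒳) {G : Over S} [GrpObj G]
  (r : Gerb.AutRep x (Gerb.ptsGrp (Over.mk (𝟙 S)) G))
  {A A' : QuotObj K G (trivAction G)}

/-- an object over the base of a torsor receiving the point from the total space, equivariantly -/
structure Dat (A : QuotObj K G (trivAction G)) where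
  y : 𝒳.obj
  hy : 𝒳.p.obj y = A.base
  ψ : xOb x A.P ⟶ y
  lift : 𝒳.p.IsHomLift A.π ψ
  eqv : ∀ {W : Over S} (g : W ⟶ G) (p : W ⟶ A.P),
    xm x (smul A g p) ≫ ψ = ε x r g ≫ xm x p ≫ ψ

variable {x r}

theorem Dat.at_lift (d : Dat x r A) {W : Over S} (p : W ⟶ A.P) :
    𝒳.p.IsHomLift (p ≫ A.π) (xm x p ≫ d.ψ) :=
  haveI := d.lift
  inferInstance

variable (hX : Stk.IsStack (QuotSh.J K S) 𝒳)

section Descent

/-- the chosen lift through the torsor -/
noncomputable def ch (a : (Stk.sieveCat (πSieve A)).obj) : a.obj.left ⟶ A.P := a.property.choose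

theorem ch_π (a : (Stk.sieveCat (πSieve A)).obj) : ch a ≫ A.π = a.obj.hom := a.property.choose_spec

theorem exists_tr {a b : (Stk.sieveCat (πSieve A)).obj} (k : a ⟶ b) :
    ∃ g : a.obj.left ⟶ G, smul A g (k.hom.left ≫ ch b) = ch a :=
  exists_smul A _ _ (by rw [Category.assoc, ch_π, ch_π]; exact (Over.w k.hom).symm)

variable (x r A) in
/-- the descent datum of a torsor -/
noncomputable def descFun : Stk.sieveCat (πSieve A) ⥤ᵇ 𝒳 where
  toFunctor :=
    { obj := fun a => xOb x a.obj.left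
      map := fun {a b} k => ε x r (exists_tr k).choose ≫ xm x k.hom.left
      map_id := fun a => by
        have h : (exists_tr (𝟙 a)).choose = 1 := smul_cancel A (p := ch a)
          (((congrArg (smul A (exists_tr (𝟙 a)).choose) (Category.id_comp (ch a)).symm).trans
            (exists_tr (𝟙 a)).choose_spec).trans (one_smul A (ch a)).symm)
        rw [h, ε_one, Category.id_comp]
        exact xm_id x _
      map_comp := fun {a b c} k l => by
        have h : (exists_tr (k ≫ l)).choose = (exists_tr k).choose * (k.hom.left ≫ (exists_tr l).choose) :=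
          smul_cancel A (p := k.hom.left ≫ l.hom.left ≫ ch c)
            (((congrArg (smul A (exists_tr (k ≫ l)).choose) (Category.assoc _ _ (ch c)).symm).trans
              (exists_tr (k ≫ l)).choose_spec).trans (by
                rw [mul_smul, ← comp_smul, (exists_tr l).choose_spec]
                exact (exists_tr k).choose_spec.symm))
        rw [h, ε_mul]
        change (ε x r _ ≫ ε x r _) ≫ xm x (k.hom.left ≫ l.hom.left) = _
        rw [xm_comp, Category.assoc, ← Category.assoc (ε x r (k.hom.left ≫ _)), ε_nat]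
        simp only [Category.assoc] }
  w := CategoryTheory.Functor.ext (fun a => xOb_p x _) (fun a b k => by
    haveI : 𝒳.p.IsHomLift k.hom.left (ε x r (exists_tr k).choose ≫ xm x k.hom.left) :=
      IsHomLift.comp_lift_id_left' (p := 𝒳.p) a.obj.left _ k.hom.left _
    exact IsHomLift.fac' 𝒳.p k.hom.left (ε x r (exists_tr k).choose ≫ xm x k.hom.left))

theorem descFun_map {a b : (Stk.sieveCat (πSieve A)).obj} (k : a ⟶ b) :
    (descFun x r A).map k = ε x r (exists_tr k).choose ≫ xm x k.hom.left := rfl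

/-- the sieve object of a point of the torsor -/
def ofPt {W : Over S} (p : W ⟶ A.P) : (Stk.sieveCat (πSieve A)).obj := ⟨Over.mk (p ≫ A.π), p, rfl⟩

theorem exists_dat (hX : Stk.IsStack (QuotSh.J K S) 𝒳) : Nonempty (Dat x r A) := by
  haveI : (Stk.resSieve (πSieve A) 𝒳).IsEquivalence := hX.2 _ (πSieve_mem A)
  let s := (Stk.resSieve (πSieve A) 𝒳).objPreimage (descFun x r A)
  let i : BasedFunctor.comp (Stk.sieveIncl _) s ≅ descFun x r A :=
    (Stk.resSieve (πSieve A) 𝒳).objObjPreimageIso (descFun x r A)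
  let χ : ∀ a : (Stk.sieveCat (πSieve A)).obj, xOb x a.obj.left ⟶ s.obj (Over.mk (𝟙 A.base)) := fun a =>
    (appIso i a).inv ≫ s.map (toTerm a.obj)
  have hl : ∀ a : (Stk.sieveCat (πSieve A)).obj, 𝒳.p.IsHomLift a.obj.hom (χ a) := fun a => by
    haveI := isHomLift_appIso_hom i a (U := a.obj.left) rfl
    haveI : 𝒳.p.IsHomLift (𝟙 a.obj.left) (appIso i a).inv := inferInstance
    haveI : 𝒳.p.IsHomLift a.obj.hom (s.map (toTerm a.obj)) := map_toTerm_lift s a.obj
    exact IsHomLift.comp_lift_id_left' (p := 𝒳.p) a.obj.left _ a.obj.hom _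
  have hnat : ∀ {a b : (Stk.sieveCat (πSieve A)).obj} (k : a ⟶ b),
      ε x r (exists_tr k).choose ≫ xm x k.hom.left ≫ χ b = χ a := by
    intro a b k
    have n : (descFun x r A).map k ≫ (appIso i b).inv =
        (appIso i a).inv ≫ s.map ((Stk.sieveIncl _).map k) := i.inv.toNatTrans.naturality k
    show _ ≫ _ ≫ (appIso i b).inv ≫ _ = (appIso i a).inv ≫ _
    rw [← Category.assoc (xm x k.hom.left), ← Category.assoc, ← Category.assoc (ε x r _), ← descFun_map, n,
      Category.assoc, ← s.toFunctor.map_comp]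
    congr 2
    exact Over.OverMorphism.ext (Over.w k.hom)
  obtain ⟨g₀, hg₀⟩ := exists_smul A (ch (ofPt (𝟙 A.P))) (𝟙 A.P) (by
    rw [ch_π]; exact (rfl : _ = (ofPt (𝟙 A.P)).obj.hom))
  have hu : ∀ (a : (Stk.sieveCat (πSieve A)).obj) (p : a.obj.left ⟶ A.P), p ≫ A.π = a.obj.hom →
      ∀ g' : a.obj.left ⟶ G, smul A g' (ch a) = p →
      xm x p ≫ ε x r g₀ ≫ χ (ofPt (𝟙 A.P)) = ε x r g' ≫ χ a := by
    intro a p hp g' hg'
    let k : a ⟶ ofPt (𝟙 A.P) := ObjectProperty.homMk (Over.homMk p (by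
      show p ≫ 𝟙 A.P ≫ A.π = a.obj.hom
      rw [Category.id_comp, hp]))
    rw [← hnat k, ← Category.assoc, ← ε_nat]
    have e : (p ≫ g₀ : a.obj.left ⟶ G) = g' * (exists_tr k).choose := by
      refine smul_cancel A (p := p ≫ ch (ofPt (𝟙 A.P))) ?_
      refine ((comp_smul A p g₀ _).symm.trans ((congrArg (p ≫ ·) hg₀).trans (Category.comp_id p))).trans ?_
      rw [mul_smul]
      exact (((congrArg (smul A g') (exists_tr k).choose_spec)).trans hg').symm
    rw [e, ε_mul]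
    simp only [Category.assoc]
    rfl
  refine ⟨{ y := s.obj (Over.mk (𝟙 A.base)), hy := s.w_obj _, ψ := ε x r g₀ ≫ χ (ofPt (𝟙 A.P)),
            lift := ?_, eqv := ?_ }⟩
  · haveI := hl (ofPt (𝟙 A.P))
    have h : 𝒳.p.IsHomLift (ofPt (𝟙 A.P)).obj.hom (ε x r g₀ ≫ χ (ofPt (𝟙 A.P))) :=
      IsHomLift.comp_lift_id_left' (p := 𝒳.p) A.P _ (ofPt (𝟙 A.P)).obj.hom _
    exact (Category.id_comp A.π) ▸ h
  · intro W g p
    obtain ⟨g₁, hg₁⟩ : ∃ g₁ : W ⟶ G, smul A g₁ (ch (ofPt p) : W ⟶ A.P) = p :=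
      exists_smul A (ch (ofPt p) : W ⟶ A.P) p (ch_π (ofPt p)).symm
    have hg₂ : smul A (g * g₁) (ch (ofPt p)) = smul A g p :=
      (mul_smul A g g₁ (ch (ofPt p))).trans (congrArg (smul A g) hg₁)
    have h1 := hu (ofPt p) (smul A g p) (smul_π A g p) (g * g₁) hg₂
    have h2 := hu (ofPt p) p rfl g₁ hg₁
    refine h1.trans (Eq.trans ?_ (congrArg (ε x r g ≫ ·) h2).symm)
    exact (congrArg (· ≫ χ (ofPt p)) (ε_mul x r g g₁)).trans (Category.assoc _ _ _)

end Descent

section Morphisms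

variable (d : Dat x r A)

/-- the comparison of the lifts of a datum -/
theorem Dat.exists_comp (hX : FibCat.IsFibGrpd 𝒳.p) :
    letI := isFibered hX
    ∃ e : ∀ a : (Stk.sieveCat (πSieve A)).obj, (ofObj d.hy).obj a.obj ≅ xOb x a.obj.left,
      (∀ a, 𝒳.p.IsHomLift (𝟙 a.obj.left) (e a).hom) ∧
      (∀ a, (e a).hom ≫ xm x (ch a) ≫ d.ψ = (ofObj d.hy).map (toTerm a.obj) ≫ (ofObjIso d.hy).hom) ∧
      (∀ {a b} (k : a ⟶ b), (ofObj d.hy).map ((Stk.sieveIncl _).map k) ≫ (e b).hom =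
        (e a).hom ≫ (descFun x r A).map k) := by
  letI := isFibered hX
  haveI := d.lift
  have h : ∀ a : (Stk.sieveCat (πSieve A)).obj, ∃ e : (ofObj d.hy).obj a.obj ≅ xOb x a.obj.left,
      𝒳.p.IsHomLift (𝟙 a.obj.left) e.hom ∧
        e.hom ≫ xm x (ch a) ≫ d.ψ = (ofObj d.hy).map (toTerm a.obj) ≫ (ofObjIso d.hy).hom := fun a => by
    haveI : 𝒳.p.IsHomLift a.obj.hom (xm x (ch a) ≫ d.ψ) := by rw [← ch_π a]; infer_instance
    haveI := map_toTerm_lift (ofObj d.hy) a.obj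
    haveI := ofObjIso_lift d.hy
    haveI : 𝒳.p.IsHomLift a.obj.hom ((ofObj d.hy).map (toTerm a.obj) ≫ (ofObjIso d.hy).hom) :=
      IsHomLift.comp_lift_id_right' (p := 𝒳.p) a.obj.hom _ A.base _
    exact exists_iso_of_lifts hX a.obj.hom _ _
  choose e he hf using h
  refine ⟨e, he, hf, fun {a b} k => ?_⟩
  haveI := he a; haveI := he b
  haveI : 𝒳.p.IsHomLift b.obj.hom (xm x (ch b) ≫ d.ψ) := by rw [← ch_π b]; infer_instance
  haveI := FC16.isStronglyCartesian hX b.obj.hom (xm x (ch b) ≫ d.ψ)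
  haveI h₁ : 𝒳.p.IsHomLift k.hom.left ((ofObj d.hy).map ((Stk.sieveIncl _).map k)) := by
    haveI : (FibCat.overCat A.base).p.IsHomLift k.hom.left ((Stk.sieveIncl (πSieve A)).map k) :=
      IsHomLift.map (FibCat.overCat A.base).p ((Stk.sieveIncl (πSieve A)).map k)
    exact BasedFunctor.preserves_isHomLift (ofObj d.hy) _ _
  haveI h₂ : 𝒳.p.IsHomLift k.hom.left ((descFun x r A).map k) := by
    haveI : (Stk.sieveCat (πSieve A)).p.IsHomLift k.hom.left k := IsHomLift.map (Stk.sieveCat (πSieve A)).p k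
    exact BasedFunctor.preserves_isHomLift (descFun x r A) _ _
  haveI : 𝒳.p.IsHomLift k.hom.left ((ofObj d.hy).map ((Stk.sieveIncl _).map k) ≫ (e b).hom) :=
    IsHomLift.comp_lift_id_right' (p := 𝒳.p) k.hom.left _ b.obj.left _
  haveI : 𝒳.p.IsHomLift k.hom.left ((e a).hom ≫ (descFun x r A).map k) :=
    IsHomLift.comp_lift_id_left' (p := 𝒳.p) a.obj.left _ k.hom.left _
  apply IsStronglyCartesian.ext 𝒳.p b.obj.hom (xm x (ch b) ≫ d.ψ) k.hom.left
  rw [Category.assoc, hf, Category.assoc, descFun_map, Category.assoc, ← Category.assoc (xm x k.hom.left),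
    ← xm_comp, ← d.eqv, (exists_tr k).choose_spec, hf, ← Category.assoc, ← (ofObj d.hy).toFunctor.map_comp]
  congr 2
  exact Over.OverMorphism.ext (Over.w k.hom)

include hX in
theorem Dat.exists_vertical (d' : Dat x r A) :
    ∃ m : d.y ⟶ d'.y, 𝒳.p.IsHomLift (𝟙 A.base) m ∧ d.ψ ≫ m = d'.ψ := by
  letI := isFibered hX.1
  haveI : (Stk.resSieve (πSieve A) 𝒳).IsEquivalence := hX.2 _ (πSieve_mem A)
  obtain ⟨e, he, hf, hn⟩ := d.exists_comp hX.1
  obtain ⟨e', he', hf', hn'⟩ := d'.exists_comp hX.1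
  obtain ⟨α, hα⟩ := (Stk.resSieve (πSieve A) 𝒳).map_surjective (X := ofObj d.hy) (Y := ofObj d'.hy)
    { toNatTrans :=
        { app := fun a => (e a).hom ≫ (e' a).inv
          naturality := fun {a b} k => by
            change (ofObj d.hy).map ((Stk.sieveIncl _).map k) ≫ (e b).hom ≫ (e' b).inv =
              ((e a).hom ≫ (e' a).inv) ≫ (ofObj d'.hy).map ((Stk.sieveIncl _).map k)
            rw [← Category.assoc, hn k, Category.assoc, Category.assoc]
            congr 1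
            rw [Iso.comp_inv_eq, Category.assoc, hn' k, Iso.inv_hom_id_assoc] }
      isHomLift' := fun a => by
        haveI := he a; haveI := he' a
        exact inferInstanceAs (𝒳.p.IsHomLift (𝟙 a.obj.left) ((e a).hom ≫ (e' a).inv)) }
  have hα' : ∀ a : (Stk.sieveCat (πSieve A)).obj, α.toNatTrans.app a.obj = (e a).hom ≫ (e' a).inv :=
    fun a => congrArg (fun δ => δ.toNatTrans.app a) hα
  haveI := ofObjIso_lift d.hy
  haveI := ofObjIso_lift d'.hy
  haveI : 𝒳.p.IsHomLift (𝟙 A.base) (α.toNatTrans.app (Over.mk (𝟙 A.base))) := BasedNatTrans.isHomLift α rfl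
  refine ⟨(ofObjIso d.hy).inv ≫ α.toNatTrans.app (Over.mk (𝟙 A.base)) ≫ (ofObjIso d'.hy).hom, inferInstance, ?_⟩
  let a := ofPt (A := A) (𝟙 A.P)
  have h1 : xm x (ch a) ≫ d.ψ ≫ (ofObjIso d.hy).inv ≫ α.toNatTrans.app (Over.mk (𝟙 A.base)) ≫
      (ofObjIso d'.hy).hom = xm x (ch a) ≫ d'.ψ := by
    rw [← cancel_epi (e a).hom, ← Category.assoc (xm x (ch a)) d.ψ, ← Category.assoc (e a).hom, hf,
      Category.assoc, Iso.hom_inv_id_assoc, ← Category.assoc]
    refine (congrArg (· ≫ (ofObjIso d'.hy).hom) (α.toNatTrans.naturality (toTerm a.obj))).trans ?_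
    rw [hα', Category.assoc, Category.assoc, ← hf' a, Iso.inv_hom_id_assoc]
  obtain ⟨g, hg⟩ := exists_smul A (ch a) (𝟙 A.P) (by rw [ch_π]; exact (rfl : _ = a.obj.hom))
  have h2 := d.eqv g (ch a)
  have h3 := d'.eqv g (ch a)
  have h2' : d.ψ = ε x r g ≫ xm x (ch a) ≫ d.ψ :=
    ((Category.id_comp _).symm.trans (congrArg (· ≫ d.ψ) (xm_id x A.P).symm)).trans
      ((congrArg (fun t => xm x t ≫ d.ψ) hg.symm).trans h2)
  have h3' : d'.ψ = ε x r g ≫ xm x (ch a) ≫ d'.ψ :=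
    ((Category.id_comp _).symm.trans (congrArg (· ≫ d'.ψ) (xm_id x A.P).symm)).trans
      ((congrArg (fun t => xm x t ≫ d'.ψ) hg.symm).trans h3)
  refine (congrArg (· ≫ _) h2').trans (Eq.trans ?_ h3'.symm)
  simp only [Category.assoc]
  rw [h1]

include hX in
theorem Dat.hom_ext {y : 𝒳.obj} {U : Over S} {b : A.base ⟶ U} (m m' : d.y ⟶ y) [𝒳.p.IsHomLift b m]
    [𝒳.p.IsHomLift b m'] (h : d.ψ ≫ m = d.ψ ≫ m') : m = m' := by
  haveI := (hX.2 _ (πSieve_mem A)).faithful
  haveI := d.lift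
  refine hom_ext_of_cover hX.1 (πSieve A) (f := b) m m' (fun V f hf => ?_)
  obtain ⟨p, rfl⟩ := hf
  exact ⟨_, xm x p ≫ d.ψ, inferInstance, by rw [Category.assoc, Category.assoc, h]⟩

include hX in
theorem Dat.exists_hom (f : A ⟶ A') (d' : Dat x r A') :
    ∃ m : d.y ⟶ d'.y, 𝒳.p.IsHomLift f.base m ∧ d.ψ ≫ m = xm x f.top ≫ d'.ψ := by
  obtain ⟨y, h, hh⟩ := FC16.exists_lift hX.1 d'.hy f.base
  haveI := hh
  haveI := d'.lift
  haveI := FC16.isStronglyCartesian hX.1 f.base h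
  haveI : 𝒳.p.IsHomLift (f.top ≫ A'.π) (xm x f.top ≫ d'.ψ) := inferInstance
  let ψ := IsStronglyCartesian.map 𝒳.p f.base h (g := A.π) (f' := f.top ≫ A'.π) f.cart.w
    (xm x f.top ≫ d'.ψ)
  have hψ : ψ ≫ h = xm x f.top ≫ d'.ψ := IsStronglyCartesian.fac 𝒳.p f.base h _ _
  haveI hlψ : 𝒳.p.IsHomLift A.π ψ := inferInstance
  let d₀ : Dat x r A :=
    { y := y
      hy := IsHomLift.domain_eq 𝒳.p f.base h
      ψ := ψ
      lift := hlψ
      eqv := fun {W} g p => by
        haveI l1 : 𝒳.p.IsHomLift (p ≫ A.π) (xm x (smul A g p) ≫ ψ) := by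
          rw [← smul_π A g p]; infer_instance
        haveI l2 : 𝒳.p.IsHomLift (p ≫ A.π) (ε x r g ≫ xm x p ≫ ψ) :=
          IsHomLift.comp_lift_id_left' (p := 𝒳.p) W _ (p ≫ A.π) _
        apply IsStronglyCartesian.ext 𝒳.p f.base h (p ≫ A.π)
        simp only [Category.assoc, hψ]
        rw [← Category.assoc (xm x (smul A g p)), ← xm_comp, smul_top, d'.eqv, xm_comp, Category.assoc] }
  obtain ⟨m, hμ, he⟩ := d.exists_vertical hX d₀
  haveI := hμ
  refine ⟨m ≫ h, ?_, ?_⟩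
  · exact IsHomLift.comp_lift_id_left' (p := 𝒳.p) A.base m f.base h
  · rw [← Category.assoc, he]; exact hψ

include hX in
/-- points of a torsor with a given image -/
theorem Dat.pt_unique {W : Over S} {q q' : W ⟶ A.P} (e₁ : q' ≫ A.π = q ≫ A.π)
    (e₂ : xm x q' ≫ d.ψ = xm x q ≫ d.ψ) : q' = q := by
  obtain ⟨g, rfl⟩ := exists_smul A q q' e₁
  rw [d.eqv] at e₂
  haveI := d.lift
  haveI := FC16.isStronglyCartesian hX.1 (q ≫ A.π) (xm x q ≫ d.ψ)
  haveI : 𝒳.p.IsHomLift (𝟙 W) (𝟙 (xOb x W)) := IsHomLift.id (xOb_p x W)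
  have h : ε x r g = 𝟙 _ := IsStronglyCartesian.ext 𝒳.p (q ≫ A.π) (xm x q ≫ d.ψ) (𝟙 W)
    (e₂.trans (Category.id_comp _).symm)
  rw [← ε_one x r] at h
  rw [ε_injective x r h, one_smul]

include hX in
theorem Dat.exists_pt (hK : K ≤ Scheme.fpqcPrecoverage) {W : Over S} {u : W ⟶ A.base}
    (c : xOb x W ⟶ d.y) [𝒳.p.IsHomLift u c] : ∃ q : W ⟶ A.P, q ≫ A.π = u ∧ xm x q ≫ d.ψ = c := by
  haveI := d.lift
  let R := (πSieve A).pullback u
  have hR : R ∈ QuotSh.J K S W := (QuotSh.J K S).pullback_stable u (πSieve_mem A)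
  have h : ∀ {V : Over S} (f : V ⟶ W), R f → ∃ q : V ⟶ A.P, q ≫ A.π = f ≫ u ∧ xm x q ≫ d.ψ = xm x f ≫ c := by
    intro V f hf
    obtain ⟨p, hp⟩ := hf
    haveI : 𝒳.p.IsHomLift (f ≫ u) (xm x p ≫ d.ψ) := by rw [← hp]; infer_instance
    obtain ⟨e, he, hfac⟩ := exists_iso_of_lifts hX.1 (f ≫ u) (xm x f ≫ c) (xm x p ≫ d.ψ)
    haveI := he
    obtain ⟨g, hg⟩ := exists_ε x r hX.1 e.hom
    exact ⟨smul A g p, (smul_π A g p).trans hp, by rw [d.eqv, hg, hfac]⟩
  choose q hq₁ hq₂ using @h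
  haveI := Quot16.subcanonical_J (S := S) hK
  have hsh : Presieve.IsSheafFor (yoneda.obj A.P) R.arrows :=
    GrothendieckTopology.Subcanonical.isSheaf_of_isRepresentable (J := QuotSh.J K S) (yoneda.obj A.P) _ hR
  have hcomp : Presieve.FamilyOfElements.Compatible (P := yoneda.obj A.P) (fun V f hf => q f hf) := by
    intro Y₁ Y₂ Z g₁ g₂ f₁ f₂ h₁ h₂ e
    show g₁ ≫ q f₁ h₁ = g₂ ≫ q f₂ h₂
    refine d.pt_unique hX ?_ ?_
    · rw [Category.assoc, Category.assoc, hq₁, hq₁, ← Category.assoc, ← Category.assoc, e]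
    · rw [xm_comp, Category.assoc, hq₂, ← Category.assoc, ← xm_comp, e, xm_comp, Category.assoc,
        ← hq₂ f₂ h₂, ← Category.assoc, ← xm_comp]
  obtain ⟨t, ht, -⟩ := hsh _ hcomp
  have ht' : ∀ {V : Over S} (f : V ⟶ W) (hf : R f), f ≫ t = q f hf := fun f hf => ht f hf
  have hπ : t ≫ A.π = u := by
    refine (GrothendieckTopology.Subcanonical.isSheaf_of_isRepresentable (J := QuotSh.J K S)
      (yoneda.obj A.base) _ hR).isSeparatedFor.ext (fun V f hf => ?_)
    show f ≫ t ≫ A.π = f ≫ u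
    rw [← Category.assoc, ht' f hf, hq₁]
  refine ⟨t, hπ, ?_⟩
  haveI : 𝒳.p.IsHomLift u (xm x t ≫ d.ψ) := by rw [← hπ]; infer_instance
  haveI := (hX.2 _ hR).faithful
  refine hom_ext_of_cover hX.1 R (f := u) _ _ (fun V f hf => ⟨_, xm x f, inferInstance, ?_⟩)
  rw [← Category.assoc, ← xm_comp, ht' f hf, hq₂]

end Morphisms

end Groth.Agent.BGGerbe16
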