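import Groth.Agent.Lib.BGGerbe16.Data

/-! The classifying stack of the automorphism group of a point maps to the stack. -/

universe u

open CategoryTheory CategoryTheory.Functor MonoidalCategory CartesianMonoidalCategory MonObj AlgebraicGeometry Opposite

set_option autoImplicit false
set_option linter.style.haveILetI false
set_option linter.unusedSectionVars false
set_option backward.isDefEq.respectTransparency false
set_option backward.isDefEq.respectTransparency.types false

namespace Groth.Agent.BGGerbe16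

open AlgSt Groth.Agent.FC16

variable {S : Scheme.{u}} {K : Precoverage Scheme.{u}} {𝒳 : AlgSt.Cat S}
  {x : FibCat.overCat (Over.mk (𝟙 S)) ⥤ᵇ 𝒳} {G : Over S} [GrpObj G]
  (r : Gerb.AutRep x (Gerb.ptsGrp (Over.mk (𝟙 S)) G))
  (hX : Stk.IsStack (QuotSh.J K S) 𝒳)

/-- the descended object of a torsor -/
noncomputable def dat (A : QuotObj K G (trivAction G)) : Dat x r A := (exists_dat hX).some

/-- the descended morphism of a morphism of torsors -/
noncomputable def mor {A A' : QuotObj K G (trivAction G)} (f : A ⟶ A') :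
    (dat r hX A).y ⟶ (dat r hX A').y :=
  ((dat r hX A).exists_hom hX f (dat r hX A')).choose

instance mor_lift {A A' : QuotObj K G (trivAction G)} (f : A ⟶ A') :
    𝒳.p.IsHomLift f.base (mor r hX f) :=
  ((dat r hX A).exists_hom hX f (dat r hX A')).choose_spec.1

theorem mor_spec {A A' : QuotObj K G (trivAction G)} (f : A ⟶ A') :
    (dat r hX A).ψ ≫ mor r hX f = xm x f.top ≫ (dat r hX A').ψ :=
  ((dat r hX A).exists_hom hX f (dat r hX A')).choose_spec.2

theorem mor_unique {A A' : QuotObj K G (trivAction G)} (f : A ⟶ A')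
    (m : (dat r hX A).y ⟶ (dat r hX A').y) [𝒳.p.IsHomLift f.base m]
    (h : (dat r hX A).ψ ≫ m = xm x f.top ≫ (dat r hX A').ψ) : m = mor r hX f :=
  (dat r hX A).hom_ext hX (b := f.base) m (mor r hX f) (h.trans (mor_spec r hX f).symm)

/-- the functor `BG ⟶ 𝒳` attached to the point -/
noncomputable def toX : BG K G ⥤ᵇ 𝒳 where
  toFunctor :=
    { obj := fun A => (dat r hX A).y
      map := fun f => mor r hX f
      map_id := fun A => by
        haveI : 𝒳.p.IsHomLift (𝟙 A : A ⟶ A).base (𝟙 (dat r hX A).y) := IsHomLift.id (dat r hX A).hy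
        refine (mor_unique r hX (𝟙 A) (𝟙 (dat r hX A).y) ?_).symm
        rw [Category.comp_id]
        exact ((congrArg (· ≫ (dat r hX A).ψ) (xm_id x A.P)).trans (Category.id_comp _)).symm
      map_comp := fun {A B C} f g => by
        haveI : 𝒳.p.IsHomLift (f ≫ g).base (mor r hX f ≫ mor r hX g) := by
          rw [QuotObj.comp_base]; infer_instance
        refine (mor_unique r hX (f ≫ g) (mor r hX f ≫ mor r hX g) ?_).symm
        rw [← Category.assoc, mor_spec, Category.assoc, mor_spec, ← Category.assoc, ← xm_comp]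
        rfl }
  w := CategoryTheory.Functor.ext (fun A => (dat r hX A).hy)
    (fun A B f => IsHomLift.fac' 𝒳.p f.base (mor r hX f))

theorem toX_map {A A' : QuotObj K G (trivAction G)} (f : A ⟶ A') : (toX r hX).map f = mor r hX f := rfl

instance toX_faithful : (toX r hX).toFunctor.Faithful where
  map_injective {A A' f f'} h := by
    have hb : f.base = f'.base := p_map_eq_of_map_eq (toX r hX) h
    refine QuotObj.hom_ext hb ((dat r hX A').pt_unique hX ?_ ?_)
    · rw [f.cart.w, f'.cart.w, hb]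
    · exact (mor_spec r hX f).symm.trans
        ((congrArg ((dat r hX A).ψ ≫ ·) h).trans (mor_spec r hX f'))

section Full

variable [K.IsStableUnderBaseChange] (hK : K ≤ Scheme.fpqcPrecoverage)
include hK

theorem exists_top {A A' : QuotObj K G (trivAction G)} (b : A.base ⟶ A'.base)
    (m : (dat r hX A).y ⟶ (dat r hX A').y) [𝒳.p.IsHomLift b m] :
    ∃ t : A.P ⟶ A'.P, t ≫ A'.π = A.π ≫ b ∧ xm x t ≫ (dat r hX A').ψ = (dat r hX A).ψ ≫ m ∧
      A.act.act ≫ t = (G ◁ t) ≫ A'.act.act := by
  let d := dat r hX A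
  let d' := dat r hX A'
  haveI := d.lift
  obtain ⟨t, ht₁, ht₂⟩ := d'.exists_pt hX hK (u := A.π ≫ b) (d.ψ ≫ m)
  refine ⟨t, ht₁, ht₂, d'.pt_unique hX ?_ ?_⟩
  · rw [Category.assoc, Category.assoc, ht₁, Quot16.act_π, whiskerLeft_snd_assoc, ht₁,
      ← Category.assoc, Quot16.act_π, Category.assoc]
  · have hlift : (G ◁ t) ≫ A'.act.act = smul A' (fst G A.P) (snd G A.P ≫ t) := by
      rw [smul]; refine congrArg (· ≫ A'.act.act) ?_
      apply CartesianMonoidalCategory.hom_ext <;> simp
    rw [hlift, d'.eqv, xm_comp, Category.assoc, ht₂, xm_comp, Category.assoc, ht₂]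
    conv_lhs => rw [← smul_fst_snd A, ← Category.assoc, d.eqv]
    simp only [Category.assoc]

theorem exists_map_eq_of_isIso {A A' : QuotObj K G (trivAction G)} (b : A.base ⟶ A'.base) [IsIso b]
    (m : (dat r hX A).y ⟶ (dat r hX A').y) [𝒳.p.IsHomLift b m] : ∃ f : A ⟶ A', mor r hX f = m := by
  haveI := FC16.isIso_of_isHomLift hX.1 b m
  haveI : 𝒳.p.IsHomLift (inv b) (inv m) := inferInstance
  obtain ⟨t, ht₁, ht₂, ht₃⟩ := exists_top r hX hK b m
  obtain ⟨t', ht₁', ht₂', -⟩ := exists_top r hX hK (inv b) (inv m)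
  have e : t ≫ t' = 𝟙 A.P := (dat r hX A).pt_unique hX
    (by rw [Category.assoc, ht₁', ← Category.assoc, ht₁, Category.assoc, IsIso.hom_inv_id, Category.comp_id,
      Category.id_comp])
    (by rw [xm_comp, Category.assoc, ht₂', ← Category.assoc, ht₂, Category.assoc, IsIso.hom_inv_id,
      Category.comp_id, xm_id, Category.id_comp])
  have e' : t' ≫ t = 𝟙 A'.P := (dat r hX A').pt_unique hX
    (by rw [Category.assoc, ht₁, ← Category.assoc, ht₁', Category.assoc, IsIso.inv_hom_id, Category.comp_id,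
      Category.id_comp])
    (by rw [xm_comp, Category.assoc, ht₂, ← Category.assoc, ht₂', Category.assoc, IsIso.inv_hom_id,
      Category.comp_id, xm_id, Category.id_comp])
  haveI : IsIso t := ⟨t', e, e'⟩
  let f : A ⟶ A' :=
    { base := b, top := t, eqv := ht₃, cart := IsPullback.of_horiz_isIso ⟨ht₁⟩, wφ := toUnit_unique _ _ }
  haveI : 𝒳.p.IsHomLift f.base m := ‹_›
  exact ⟨f, (mor_unique r hX f m ht₂.symm).symm⟩

theorem toX_full : (toX r hX).toFunctor.Full where
  map_surjective {A A'} m := by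
    let b : A.base ⟶ A'.base :=
      eqToHom (dat r hX A).hy.symm ≫ 𝒳.p.map m ≫ eqToHom (dat r hX A').hy
    haveI : 𝒳.p.IsHomLift b m := IsHomLift.of_fac' 𝒳.p _ _ (dat r hX A).hy (dat r hX A').hy (by simp [b])
    obtain ⟨B, h, hh⟩ := Quot16.exists_pullbackObj A' b
    have hB : B.base = A.base := IsHomLift.domain_eq (BG K G).p b h
    haveI := hh
    have hl : 𝒳.p.IsHomLift b (mor r hX h) := BasedFunctor.preserves_isHomLift (toX r hX) b h
    haveI := hl
    haveI := FC16.isStronglyCartesian hX.1 b (mor r hX h)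
    let m₀ := IsCartesian.map 𝒳.p b (mor r hX h) m
    haveI : 𝒳.p.IsHomLift (eqToHom hB.symm) m₀ := IsHomLift.of_fac' 𝒳.p _ _ (dat r hX A).hy (dat r hX B).hy (by
      have := IsHomLift.fac' 𝒳.p (𝟙 A.base) m₀
      rw [this]; simp)
    obtain ⟨f, hf⟩ := exists_map_eq_of_isIso r hX hK (eqToHom hB.symm) m₀
    refine ⟨f ≫ h, ((toX r hX).toFunctor.map_comp f h).trans ?_⟩
    rw [toX_map, hf]
    exact IsCartesian.fac 𝒳.p b (mor r hX h) m

end Full

section Triv

variable [K.HasIsos]

/-- the value on a trivial torsor receives the point -/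
noncomputable def unitTo (a : (ofSch (𝟙_ (Over S))).obj) :
    xOb x a.base ⟶ (toX r hX).obj ((quotMap K G (trivAction G)).obj a) :=
  xm x (Quot16.unitSec a.base) ≫ (dat r hX ((quotMap K G (trivAction G)).obj a)).ψ

instance unitTo_lift (a : (ofSch (𝟙_ (Over S))).obj) : 𝒳.p.IsHomLift (𝟙 a.base) (unitTo r hX a) := by
  have h := (dat r hX ((quotMap K G (trivAction G)).obj a)).at_lift (Quot16.unitSec a.base)
  exact (Quot16.unitSec_snd (G := G) a.base) ▸ h

theorem unitTo_nat {a b : (ofSch (𝟙_ (Over S))).obj} (f : a ⟶ b) :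
    xm x f.hom ≫ unitTo r hX b = unitTo r hX a ≫ (toX r hX).map ((quotMap K G (trivAction G)).map f) := by
  have h := mor_spec r hX ((quotMap K G (trivAction G)).map f)
  rw [toX_map, unitTo, unitTo, Category.assoc, h, ← Category.assoc, ← Category.assoc, ← xm_comp, ← xm_comp]
  exact congrArg (fun t => xm x t ≫ _) (Quot16.unitSec_natural f.hom).symm

theorem isIso_unitTo (a : (ofSch (𝟙_ (Over S))).obj) : IsIso (unitTo r hX a) :=
  FC16.isIso_of_isHomLift hX.1 (𝟙 a.base) _

/-- the object of the slice under a point of the base -/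
noncomputable def slIso (a : (ofSch (𝟙_ (Over S))).obj) :
    ptOb a.base ≅ (AlgSt.toOverCat (Over.mk (𝟙 S))).obj a :=
  Over.isoMk (Iso.refl a.base) (Over.OverMorphism.ext (by
    show 𝟙 a.base.left ≫ a.sec.down.left = a.base.hom
    rw [Category.id_comp]
    exact (Category.comp_id _).symm.trans (Over.w a.sec.down)))

theorem exists_triangle : Nonempty (BasedFunctor.comp (quotMap K G (trivAction G)) (toX r hX) ≅
    BasedFunctor.comp (AlgSt.toOverCat (Over.mk (𝟙 S))) x) := by
  haveI := fun a => isIso_unitTo r hX a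
  refine ⟨BasedNatIso.mkNatIso
    (F := BasedFunctor.comp (quotMap K G (trivAction G)) (toX r hX))
    (G := BasedFunctor.comp (AlgSt.toOverCat (Over.mk (𝟙 S))) x)
    (NatIso.ofComponents (fun a => (asIso (unitTo r hX a)).symm ≪≫ x.toFunctor.mapIso (slIso a))
      (fun {a b} f => ?_)) (fun a => ?_)⟩
  · show (toX r hX).map ((quotMap K G (trivAction G)).map f) ≫ inv (unitTo r hX b) ≫ x.map (slIso b).hom =
      (inv (unitTo r hX a) ≫ x.map (slIso a).hom) ≫ x.map ((AlgSt.toOverCat (Over.mk (𝟙 S))).map f)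
    rw [← cancel_epi (unitTo r hX a), ← Category.assoc, ← unitTo_nat, Category.assoc,
      IsIso.hom_inv_id_assoc, Category.assoc, IsIso.hom_inv_id_assoc]
    refine (x.toFunctor.map_comp _ _).symm.trans (Eq.trans ?_ (x.toFunctor.map_comp _ _))
    exact congrArg x.map (Over.OverMorphism.ext ((Category.comp_id _).trans (Category.id_comp _).symm))
  · haveI : (FibCat.overCat (Over.mk (𝟙 S) : Over S)).p.IsHomLift (𝟙 a.base) (slIso a).hom :=
      IsHomLift.map (FibCat.overCat (Over.mk (𝟙 S) : Over S)).p (slIso a).hom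
    haveI := BasedFunctor.preserves_isHomLift x (𝟙 a.base) (slIso a).hom
    exact inferInstanceAs (𝒳.p.IsHomLift (𝟙 a.base) (inv (unitTo r hX a) ≫ x.map (slIso a).hom))

end Triv

end Groth.Agent.BGGerbe16
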