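import Groth.Agent.Lib.BGGerbe16.Functor
import Groth.Agent.Lib.Quot16.Stack
import Groth.Agent.Lib.GerbAbs16.FFEss
import Groth.Agent.Lib.StAlg16.Mono
import Groth.Agent.Lib.Bootst16.BGScheme

/-! Gerbes with a section over the base are classifying stacks. -/

universe u

open CategoryTheory CategoryTheory.Functor MonoidalCategory CartesianMonoidalCategory MonObj AlgebraicGeometry Opposite

set_option autoImplicit false
set_option linter.style.haveILetI false
set_option linter.unusedSectionVars false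
set_option backward.isDefEq.respectTransparency false
set_option backward.isDefEq.respectTransparency.types false

namespace Groth.Agent.BGGerbe16

open AlgSt Groth.Agent.FC16

variable {S : Scheme.{u}} {K : Precoverage Scheme.{u}} [K.HasIsos] {𝒳 : AlgSt.Cat S}
  {x : FibCat.overCat (Over.mk (𝟙 S)) ⥤ᵇ 𝒳} {G : Over S} [GrpObj G]
  (r : Gerb.AutRep x (Gerb.ptsGrp (Over.mk (𝟙 S)) G))
  (hX : Stk.IsStack (QuotSh.J K S) 𝒳)

theorem locSurjObj_toX {π : 𝒳 ⥤ᵇ FibCat.overCat (Over.mk (𝟙 S))}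
    (hπ : Gerb.IsGerbeOver (QuotSh.J K S) π) : Gerb.LocSurjObj (QuotSh.J K S) (toX r hX) := by
  intro y
  let T := 𝒳.p.obj y
  have hleft : (π.obj (xOb x T)).left = (π.obj y).left :=
    ((π.w_obj (xOb x T)).trans (xOb_p x T)).trans (π.w_obj y).symm
  let iso : π.obj (xOb x T) ≅ π.obj y :=
    Over.isoMk (eqToIso hleft)
      (Over.OverMorphism.ext (by
        have h₁ := (Category.comp_id _).symm.trans (Over.w (π.obj (xOb x T)).hom)
        have h₂ := (Category.comp_id _).symm.trans (Over.w (π.obj y).hom)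
        rw [Over.comp_left, h₁]
        exact (congrArg (_ ≫ ·) h₂).trans (Over.w (eqToHom hleft))))
  have hb : (FibCat.overCat (Over.mk (𝟙 S) : Over S)).p.IsHomLift (𝟙 T) iso.hom := by
    refine IsHomLift.of_fac' _ _ _ ((π.w_obj (xOb x T)).trans (xOb_p x T)) (π.w_obj y) ?_
    change eqToHom hleft = _
    simp
  obtain ⟨R, hR, h⟩ := GerbAbs.locSurjHom_at _ hπ.2 (xOb x T) y iso.hom (xOb_p x T) hb
  refine ⟨R, hR, fun V f hf => ?_⟩
  obtain ⟨x₀, φ, ψ, hφ, hψ, -⟩ := h f hf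
  haveI := hφ; haveI := hψ
  obtain ⟨e, he, -⟩ := exists_iso_of_lifts hX.1 f (xm x f) φ
  haveI := he
  let a : (ofSch (𝟙_ (Over S))).obj := ⟨V, ⟨toUnit V⟩⟩
  haveI : IsIso (unitTo r hX a) := isIso_unitTo r hX a
  haveI : 𝒳.p.IsHomLift (𝟙 V) (unitTo r hX a) := unitTo_lift r hX a
  haveI : 𝒳.p.IsHomLift (𝟙 V) (inv (unitTo r hX a)) := inferInstance
  haveI : 𝒳.p.IsHomLift f (e.hom ≫ ψ) := IsHomLift.comp_lift_id_left' (p := 𝒳.p) V _ f _
  exact ⟨(quotMap K G (trivAction G)).obj a, inv (unitTo r hX a) ≫ e.hom ≫ ψ,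
    IsHomLift.comp_lift_id_left' (p := 𝒳.p) V _ f _⟩

theorem toX_isEquivOver [K.IsStableUnderBaseChange] [K.IsStableUnderComposition] [IsAffineHom G.hom]
    [Precoverage.Small.{u} K]
    (hK : K ≤ Scheme.fpqcPrecoverage) {π : 𝒳 ⥤ᵇ FibCat.overCat (Over.mk (𝟙 S))}
    (hπ : Gerb.IsGerbeOver (QuotSh.J K S) π) : FibCat.IsEquivOver (toX r hX) := by
  haveI := toX_full r hX hK
  have hp : Stk.IsPrestack (QuotSh.J K S) 𝒳 := ⟨hX.1, fun U R hR => by
    haveI : (Stk.resSieve R 𝒳).IsEquivalence := hX.2 R hR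
    exact ⟨inferInstance, inferInstance⟩⟩
  exact isEquivOver_of _ (GerbAbs.essSurjOver_of_locally (Quot16.isStack_quotSt hK) hp (toX r hX)
    (locSurjObj_toX r hX hπ))

end Groth.Agent.BGGerbe16
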