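import Groth.Agent.Lib.Quot16.Prestack

/-! Points of torsors; the sieve generated by the projection of a torsor. -/

universe u

open CategoryTheory CategoryTheory.Limits MonoidalCategory CartesianMonoidalCategory MonObj GrpObj AlgebraicGeometry

set_option autoImplicit false
set_option linter.style.haveILetI false
set_option linter.unusedSectionVars false
set_option backward.isDefEq.respectTransparency false
set_option backward.isDefEq.respectTransparency.types false

namespace Groth.Agent.BGGerbe16

open AlgSt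

variable {S : Scheme.{u}} {K : Precoverage Scheme.{u}} {G : Over S} [GrpObj G] {X : Over S}
  {aX : AlgGrp.Action G X} (A : QuotObj K G aX) {W : Over S}

/-- the action on points -/
noncomputable abbrev smul (g : W ⟶ G) (p : W ⟶ A.P) : W ⟶ A.P := lift g p ≫ A.act.act

@[reassoc]
theorem smul_π (g : W ⟶ G) (p : W ⟶ A.P) : smul A g p ≫ A.π = p ≫ A.π := by
  rw [smul, Category.assoc, Quot16.act_π, lift_snd_assoc]

theorem one_smul (p : W ⟶ A.P) : smul A 1 p = p := by
  have h : lift (1 : W ⟶ G) p = p ≫ (λ_ A.P).inv ≫ (η[G] ▷ A.P) := by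
    apply CartesianMonoidalCategory.hom_ext <;> simp [Hom.one_def]
  rw [smul, h, Category.assoc, Category.assoc, A.act.one_act, Iso.inv_hom_id, Category.comp_id]

theorem mul_smul (g h : W ⟶ G) (p : W ⟶ A.P) : smul A (g * h) p = smul A g (smul A h p) := by
  have h1 : lift (g * h) p = lift (lift g h) p ≫ (μ[G] ▷ A.P) := by
    rw [lift_whiskerRight, Hom.mul_def]
  rw [smul, h1, Category.assoc, A.act.mul_act, lift_lift_associator_hom_assoc, lift_whiskerLeft_assoc]

theorem comp_smul {V : Over S} (k : V ⟶ W) (g : W ⟶ G) (p : W ⟶ A.P) :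
    k ≫ smul A g p = smul A (k ≫ g) (k ≫ p) := by
  rw [smul, ← Category.assoc, comp_lift]

theorem smul_fst_snd : smul A (fst G A.P) (snd G A.P) = A.act.act := by
  rw [smul, lift_fst_snd, Category.id_comp]

theorem smul_cancel {g g' : W ⟶ G} {p : W ⟶ A.P} (e : smul A g p = smul A g' p) : g = g' := by
  have h : lift g p = lift g' p := A.cart.hom_ext e (by rw [lift_snd, lift_snd])
  simpa using congrArg (· ≫ fst _ _) h

theorem exists_smul (p p' : W ⟶ A.P) (e : p' ≫ A.π = p ≫ A.π) : ∃ g : W ⟶ G, smul A g p = p' := by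
  refine ⟨A.cart.lift p' p e ≫ fst _ _, ?_⟩
  have : lift (A.cart.lift p' p e ≫ fst _ _) p = A.cart.lift p' p e := by
    apply CartesianMonoidalCategory.hom_ext
    · simp
    · rw [lift_snd]; exact (A.cart.lift_snd _ _ _).symm
  rw [smul, this]
  exact A.cart.lift_fst _ _ _

variable {A} in
theorem smul_top {A' : QuotObj K G aX} (f : A ⟶ A') (g : W ⟶ G) (p : W ⟶ A.P) :
    smul A g p ≫ f.top = smul A' g (p ≫ f.top) := by
  rw [smul, Category.assoc, f.eqv, lift_whiskerLeft_assoc]

/-- the sieve of morphisms lifting through the torsor -/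
def πSieve : Sieve A.base where
  arrows V f := ∃ p : V ⟶ A.P, p ≫ A.π = f
  downward_closed := by
    rintro V V' f ⟨p, rfl⟩ k
    exact ⟨k ≫ p, Category.assoc _ _ _⟩

theorem πSieve_mem : πSieve A ∈ QuotSh.J K S A.base := by
  obtain ⟨R, hR, hs⟩ := A.loc
  show Sieve.overEquiv A.base (πSieve A) ∈ K.toGrothendieck A.base.left
  refine GrothendieckTopology.superset_covering _ ?_ (Precoverage.generate_mem_toGrothendieck hR)
  rw [Sieve.generate_le_iff]
  intro T' f hf
  obtain ⟨s, hs⟩ := hs f hf
  refine (Sieve.overEquiv_iff _ f).2 ⟨Over.homMk s ?_, Over.OverMorphism.ext hs⟩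
  rw [← Over.w A.π, ← Category.assoc]
  exact congrArg (· ≫ A.base.hom) hs

end Groth.Agent.BGGerbe16
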